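import Cfsg.Agent.Lib.Suzuki.Multiplier

/-!
The commutators of the lifts of a root group of a Suzuki group of any degree, when the lifts of its centre are
central in those of the root group (the argument of the multiplier file without its bound on the degree).
-/

set_option autoImplicit false

namespace Cfsg.Agent.GateCons

open scoped Pointwise commutatorElement
open Polynomial Suzuki

variable {F : Type*} [Field F] [Fintype F] {m : ℕ} (h : SzField F m) {X : Type*} [Group X] (ξ : X →* Cfsg.Sz F m)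
  (hs : Function.Surjective ξ) (hc : ξ.ker ≤ Subgroup.center X)

include h hs hc

theorem sz_two_part (hcz : ∀ x y : X, ξ x ∈ zGroup h → ξ y ∈ rootGroup h → x * y = y * x)
    (w : (rootGroup h).comap ξ) (hw : w ∈ commutator ((rootGroup h).comap ξ))
    (h1 : ξ w = 1) (h2 : (w : X) ^ 2 = 1) : (w : X) = 1 := by
  classical
  let P := (rootGroup h).comap ξ
  let Zc : Subgroup X := (zGroup h).comap ξ
  let : CommGroup Zc :=
    { (inferInstance : Group Zc) with
      mul_comm := fun u v => Subtype.ext (hcz _ _ u.2 (zGroup_le h v.2)) }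
  let t : F → X := fun a => Function.surjInv hs (T h a 0)
  have ht : ∀ a, ξ (t a) = T h a 0 := fun a => Function.surjInv_eq hs _
  have htP : ∀ a, ξ (t a) ∈ rootGroup h := fun a => ⟨a, 0, ht a⟩
  obtain ⟨k, hk⟩ := IsCyclic.exists_generator (α := Fˣ)
  have hord : orderOf k = 2 ^ (2 * m + 1) - 1 := by
    rw [← h.card_units_natCard]; exact orderOf_eq_card_of_forall_mem_zpowers hk
  set u := Function.surjInv hs (H h k) with hudef
  have hu : ξ u = H h k := Function.surjInv_eq hs _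
  have hnorm : ∀ (i : ℕ) (d : X), d ∈ Zc → u ^ i * d * (u ^ i)⁻¹ ∈ Zc := by
    rintro i d ⟨b, hb⟩
    refine ⟨θ m ((k ^ i : Fˣ) : F) * ((k ^ i : Fˣ) : F) * b, ?_⟩
    rw [map_mul, map_mul, map_inv, map_pow, hu, hb, show H h k ^ i = H h (k ^ i) from ((HHom h).map_pow k i).symm,
      H_conj_zero]
  let σ : ℕ → Zc →* Zc := fun i =>
    { toFun := fun d => ⟨u ^ i * d.1 * (u ^ i)⁻¹, hnorm i _ d.2⟩
      map_one' := Subtype.ext (by simp)
      map_mul' := fun a b => Subtype.ext (by simp only [Subgroup.coe_mul]; group) }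
  let n := 2 ^ (2 * m + 1) - 1
  let N : Zc →* Zc := ∏ i ∈ Finset.range n, σ i
  have hNapp : ∀ d, N d = ∏ i ∈ Finset.range n, σ i d := fun d => MonoidHom.finsetProd_apply _ _ _
  have hun : ξ (u ^ n) = 1 := by
    rw [map_pow, hu, show H h k ^ n = H h (k ^ n) from ((HHom h).map_pow k n).symm,
      show k ^ n = 1 by simp only [n, ← hord, pow_orderOf_eq_one], H_one]
  have hshift : ∀ d, N (σ 1 d) = N d := by
    intro d
    rw [hNapp, hNapp]
    have e : ∀ i, σ i (σ 1 d) = σ (i + 1) d := fun i => Subtype.ext (by simp only [σ, MonoidHom.coe_mk, OneHom.coe_mk]; group)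
    simp only [e]
    have e0 : σ n d = σ 0 d := Subtype.ext (by
      simp only [σ, MonoidHom.coe_mk, OneHom.coe_mk, pow_zero, one_mul, inv_one, mul_one]
      rw [central_of_map_eq_one ξ hc hun, mul_inv_cancel_right])
    obtain ⟨j, hj⟩ : ∃ j, n = j + 1 := ⟨n - 1, by have := h.eight_le_card; rw [h.card] at this; omega⟩
    rw [hj] at e0 ⊢
    rw [Finset.prod_range_succ, Finset.prod_range_succ' (fun i => σ i d), e0]
  -- the commutator of lifts depends only on first coordinates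
  have hmem : ∀ x ∈ P, ∀ y ∈ P, ⁅x, y⁆ ∈ Zc := by
    rintro x ⟨a, b, hx⟩ y ⟨c, d, hy⟩
    refine ⟨θ m a * c + θ m c * a, ?_⟩
    rw [map_commutatorElement, hx, hy, commutatorElement_def, T_comm h a b c d]
    group
  have hcz : ∀ d ∈ Zc, ∀ y ∈ P, d * y = y * d := fun d hd y hy => hcz d y hd hy
  have hfirst : ∀ x ∈ P, ∀ a b, ξ x = T h a b → ∀ y ∈ P, ⁅x, y⁆ = ⁅t a, y⁆ := by
    intro x hx a b e y hy
    obtain ⟨d, hd⟩ := hs (T h 0 b)
    rw [comm_congr ξ hc (x := x) (x' := d * t a) (y := y) (y' := y)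
      (by rw [map_mul, hd, ht, T_zero_mul, add_zero, e]) rfl,
      show ⁅d * t a, y⁆ = d * ⁅t a, y⁆ * d⁻¹ * ⁅d, y⁆ by simp only [commutatorElement_def]; group,
      commutatorElement_eq_one_iff_mul_comm.mpr (hcz d ⟨b, hd⟩ y hy), mul_one,
      hcz d ⟨b, hd⟩ _ (zGroup_le h (hmem _ (htP a) y hy)), mul_inv_cancel_right]
  have hswap : ∀ x y : X, ⁅x, y⁆ = ⁅y, x⁆⁻¹ := fun x y => (commutatorElement_inv y x).symm
  let φ0 : F → F → Zc := fun a c => N ⟨⁅t a, t c⁆, hmem _ (htP a) _ (htP c)⟩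
  have hadd : ∀ a a' c, φ0 (a + a') c = φ0 a c * φ0 a' c := by
    intro a a' c
    simp only [φ0]
    rw [← map_mul]
    congr 1
    apply Subtype.ext
    simp only [Subgroup.coe_mul]
    obtain ⟨b, hb⟩ : ∃ b, ξ (t a * t a') = T h (a + a') b := ⟨_, by rw [map_mul, ht, ht, T_mul]⟩
    have hP : t a * t a' ∈ P := P.mul_mem (htP a) (htP a')
    rw [← hfirst _ hP _ _ hb (t c) (htP c),
      show ⁅t a * t a', t c⁆ = t a * ⁅t a', t c⁆ * (t a)⁻¹ * ⁅t a, t c⁆ by
        simp only [commutatorElement_def]; group,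
      ← hcz _ (hmem _ (htP a') _ (htP c)) _ (htP a), mul_inv_cancel_right]
    exact hcz _ (hmem _ (htP a') _ (htP c)) _ (zGroup_le h (hmem _ (htP a) _ (htP c)))
  have hanti : ∀ a c, φ0 a c = (φ0 c a)⁻¹ := fun a c => by
    simp only [φ0]; rw [← map_inv]; congr 1; exact Subtype.ext (hswap _ _)
  have hadd' : ∀ a c c', φ0 a (c + c') = φ0 a c * φ0 a c' := fun a c c' => by
    rw [hanti, hadd, mul_inv, ← hanti, ← hanti]
  let φ : F →+ F →+ Additive Zc := AddMonoidHom.mk' (fun a => AddMonoidHom.mk'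
      (fun c => Additive.ofMul (φ0 a c)) (fun c c' => by rw [← ofMul_mul, hadd']))
    (fun a a' => AddMonoidHom.ext fun c => congrArg (Additive.ofMul (α := Zc)) (hadd a a' c))
  have hφ : ∀ a c, φ a c = 0 := biadd_eq_zero h φ (k : F) (k : F)⁻¹ (fun a c => by
    refine congrArg Additive.ofMul ?_
    show φ0 a ((k : F) * c) = φ0 ((k : F)⁻¹ * a) c
    simp only [φ0]
    rw [← hshift ⟨⁅t ((k : F)⁻¹ * a), t c⁆, _⟩]
    congr 1
    apply Subtype.ext
    simp only [σ, MonoidHom.coe_mk, OneHom.coe_mk, pow_one]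
    rw [show u * ⁅t ((k : F)⁻¹ * a), t c⁆ * u⁻¹ = ⁅u * t ((k : F)⁻¹ * a) * u⁻¹, u * t c * u⁻¹⁆ by
      simp only [commutatorElement_def]; group]
    refine comm_congr ξ hc ?_ ?_
    · rw [map_mul, map_mul, map_inv, hu, ht, ht, H_conj_T, mul_zero, mul_inv_cancel_left₀ k.ne_zero]
    · rw [map_mul, map_mul, map_inv, hu, ht, ht, H_conj_T, mul_zero]) (fun j hj e => by
    have e1 : (k : F) ^ (2 ^ j + 1) = 1 := by rw [pow_succ, ← e, inv_mul_cancel₀ k.ne_zero]
    have e2 : k ^ (2 ^ j + 1) = 1 := Units.ext (by rw [Units.val_pow_eq_pow_val, e1, Units.val_one])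
    have h1 := Nat.le_of_dvd (by positivity) (orderOf_dvd_of_pow_eq_one e2)
    rw [hord] at h1
    have hj' : 2 ^ j ≤ 2 ^ (2 * m) := Nat.pow_le_pow_right (by norm_num) (by omega)
    have hm1 := h.one_le
    have h4 : 2 ^ 2 ≤ 2 ^ (2 * m) := Nat.pow_le_pow_right (by norm_num) (by omega)
    rw [pow_succ 2 (2 * m)] at h1
    omega)
  -- the commutator subgroup is killed by N
  let D : Subgroup P :=
    { carrier := {d | ∃ hd : (d : X) ∈ Zc, N ⟨_, hd⟩ = 1}
      one_mem' := ⟨Zc.one_mem, N.map_one⟩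
      mul_mem' := by
        rintro a b ⟨ha, ha'⟩ ⟨hb, hb'⟩
        exact ⟨Zc.mul_mem ha hb, (N.map_mul ⟨_, ha⟩ ⟨_, hb⟩).trans (by rw [ha', hb', one_mul])⟩
      inv_mem' := by
        rintro a ⟨ha, ha'⟩
        exact ⟨Zc.inv_mem ha, (N.map_inv ⟨_, ha⟩).trans (by rw [ha', inv_one])⟩ }
  have hD : commutator P ≤ D := by
    rw [commutator_def, Subgroup.commutator_le]
    rintro ⟨x, hx⟩ - ⟨y, hy⟩ -
    obtain ⟨a, b, ea⟩ := id (Subgroup.mem_comap.mp hx)
    obtain ⟨c, d, ec⟩ := id (Subgroup.mem_comap.mp hy)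
    refine ⟨hmem x hx y hy, ?_⟩
    have e : ⁅x, y⁆ = ⁅t a, t c⁆ := by
      rw [hfirst x hx a b ea y hy, hswap, hfirst y hy c d ec _ (htP a), ← hswap]
    rw [← (show φ0 a c = 1 from hφ a c)]
    exact congrArg N (Subtype.ext e)
  obtain ⟨hwz, hwN⟩ := hD hw
  have hfix : ∀ i, σ i ⟨(w : X), hwz⟩ = ⟨(w : X), hwz⟩ := fun i => Subtype.ext (by
    simp only [σ, MonoidHom.coe_mk, OneHom.coe_mk]
    rw [← central_of_map_eq_one ξ hc h1 (u ^ i), mul_inv_cancel_right])
  rw [hNapp, Finset.prod_congr rfl (fun i _ => hfix i), Finset.prod_const, Finset.card_range] at hwN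
  have hwn : (w : X) ^ n = 1 := congrArg Subtype.val hwN
  obtain ⟨j, hj⟩ : ∃ j, n = 2 * j + 1 := ⟨2 ^ (2 * m) - 1, by
    have : 1 ≤ 2 ^ (2 * m) := Nat.one_le_two_pow
    simp only [n, pow_succ]
    omega⟩
  rwa [hj, pow_succ, pow_mul, h2, one_pow, one_mul] at hwn

end Cfsg.Agent.GateCons
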