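import Cfsg.Agent.Lib.GateCons.Cover
import Cfsg.Agent.Lib.GateCons.SzTwoPart
import Cfsg.Agent.Lib.PSUMult.Radical
import Cfsg.Agent.Lib.PSL2Binary.Sufficient
import Cfsg.Agent.Lib.LocalEven.SylowAux
import Cfsg.Agent.Lib.Involutions.StronglyEmbedded

/-!
Central 2-extensions of the Bender groups whose squaring-into-the-centre elements are central in a Sylow subgroup.
-/

set_option autoImplicit false
set_option linter.style.haveILetI false
set_option linter.unusedSectionVars false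

namespace Cfsg.Agent.GateCons

open Subgroup
open scoped commutatorElement

section

variable {X Y : Type*} [Group X] [Finite X] [Group Y] [Finite Y] (ξ : X →* Y)
  (hs : Function.Surjective ξ) (hc : ξ.ker ≤ center X) (h2 : IsPGroup 2 ξ.ker)
include hs hc h2

/-- Transfer: it suffices that the kernel's involutions stay outside the derived group over a subgroup of odd
index. -/
theorem inter_eq_bot_of_odd (U : Subgroup Y) (hU : ¬ 2 ∣ U.index)
    (hk : ∀ w : U.comap ξ, w ∈ commutator (U.comap ξ) → ξ w = 1 → (w : X) ^ 2 = 1 → (w : X) = 1) :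
    ξ.ker ⊓ commutator X = ⊥ := by
  by_contra hne
  haveI : Fact (Nat.Prime 2) := ⟨Nat.prime_two⟩
  obtain ⟨c, hc', ho⟩ := LESylow.exists_orderOf_eq
    (LESylow.dvd_card_of_ne_bot (h2.to_le inf_le_left) hne)
  obtain ⟨hc1, hc2⟩ := mem_inf.1 hc'
  obtain ⟨hm, hcomm⟩ := Suzuki.transfer_step ξ hs U (hc hc1) hc1 hc2
  have hck : c ^ U.index = c := by
    obtain ⟨k, hk'⟩ := Nat.odd_iff.2 (Nat.two_dvd_ne_zero.1 hU)
    rw [hk', pow_succ, pow_mul, pow_two, Invol.mul_self ho, one_pow, one_mul]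
  have h1 : c ^ U.index = 1 := hk ⟨_, hm⟩ hcomm (by show ξ (c ^ U.index) = 1; rw [hck]; exact hc1)
    (by show (c ^ U.index) ^ 2 = 1; rw [hck, pow_two, Invol.mul_self ho])
  rw [hck] at h1
  exact Invol.ne_one ho h1

/-- The centrality hypothesis holds over every 2-subgroup of odd index. -/
theorem central_over (P : Sylow 2 X) (hP : ∀ y ∈ P, ξ (y * y) = 1 → ∀ x ∈ P, Commute x y)
    (U : Subgroup Y) (hU2 : IsPGroup 2 U) (hU : ¬ 2 ∣ U.index) :
    ∀ y ∈ U.comap ξ, ξ (y * y) = 1 → ∀ x ∈ U.comap ξ, Commute x y := by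
  haveI : Fact (Nat.Prime 2) := ⟨Nat.prime_two⟩
  have hV : IsPGroup 2 (U.comap ξ) := hU2.comap_of_ker_isPGroup _ h2
  have hVi : ¬ 2 ∣ (U.comap ξ).index := by rwa [index_comap_of_surjective U hs]
  obtain ⟨g, hg⟩ := LESylow.exists_conj_eq (hV.toSylow hVi) P
  intro y hy hyy x hx
  have hmem : ∀ w ∈ U.comap ξ, g * w * g⁻¹ ∈ (P : Subgroup X) := fun w hw => hg ▸ ⟨w, hw, rfl⟩
  have h1 := hP _ (hmem y hy) (by
    rw [show g * y * g⁻¹ * (g * y * g⁻¹) = g * (y * y) * g⁻¹ by group, map_mul, map_mul, hyy, mul_one,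
      ← map_mul, mul_inv_cancel, map_one]) _ (hmem x hx)
  have h3 := h1.map (MulAut.conj g⁻¹).toMonoidHom
  simpa [mul_assoc] using h3

theorem inter_eq_bot_psl {F : Type*} [Field F] [Finite F] [CharP F 2]
    (e : Y ≃* Matrix.ProjectiveSpecialLinearGroup (Fin 2) F) (P : Sylow 2 X)
    (hP : ∀ y ∈ P, ξ (y * y) = 1 → ∀ x ∈ P, Commute x y) : ξ.ker ⊓ commutator X = ⊥ := by
  haveI : Fact (Nat.Prime 2) := ⟨Nat.prime_two⟩
  obtain ⟨S⟩ : Nonempty (Sylow 2 Y) := inferInstance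
  refine inter_eq_bot_of_odd ξ hs hc h2 S S.not_dvd_index fun w hw _ _ => ?_
  have hcen := central_over ξ hs hc h2 P hP S S.isPGroup' S.not_dvd_index
  have hab : commutator ↥((S : Subgroup Y).comap ξ) = ⊥ := by
    rw [commutator_def, eq_bot_iff, commutator_le]
    rintro ⟨a, ha⟩ - ⟨b, hb⟩ -
    rw [mem_bot, commutatorElement_eq_one_iff_mul_comm]
    refine Subtype.ext (hcen b hb ?_ a ha)
    refine e.injective ?_
    rw [map_one, map_mul, map_mul]
    refine PSL2Binary.sq_eq_one_of_sylow (S.mapSurjective (f := e.toMonoidHom) e.surjective) ?_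
    exact ⟨ξ b, hb, rfl⟩
  rw [hab, mem_bot] at hw
  rw [hw]; rfl

theorem inter_eq_bot_sz {F : Type*} [Field F] [Fintype F] {m : ℕ} (h : Suzuki.SzField F m)
    (e : Y ≃* Cfsg.Sz F m) (P : Sylow 2 X)
    (hP : ∀ y ∈ P, ξ (y * y) = 1 → ∀ x ∈ P, Commute x y) : ξ.ker ⊓ commutator X = ⊥ := by
  haveI : Fact (Nat.Prime 2) := ⟨Nat.prime_two⟩
  haveI : Finite (Cfsg.Sz F m) := Finite.of_equiv _ e.toEquiv
  set η := e.toMonoidHom.comp ξ with hη
  have hker : η.ker = ξ.ker := by ext x; simp [hη, MonoidHom.mem_ker]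
  have hηs : Function.Surjective η := e.surjective.comp hs
  rw [← hker] at hc h2 ⊢
  have hP' : ∀ y ∈ P, η (y * y) = 1 → ∀ x ∈ P, Commute x y := fun y hy hyy =>
    hP y hy (e.injective (by rw [map_one]; exact hyy))
  have hU := Suzuki.odd_index_rootGroup h
  have hU2 : IsPGroup 2 (Suzuki.rootGroup h) :=
    IsPGroup.of_card (n := (2 * m + 1) * 2) (by rw [Suzuki.card_rootGroup h, pow_mul])
  have hcen := central_over η hηs hc h2 P hP' _ hU2 hU
  refine inter_eq_bot_of_odd η hηs hc h2 _ hU (sz_two_part h η hηs hc fun x y hx hy => ?_)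
  refine (hcen x (Suzuki.zGroup_le h hx) ?_ y hy).eq.symm
  obtain ⟨b, hb⟩ := hx
  rw [map_mul, hb, Suzuki.T_sq, Suzuki.θ_zero, zero_mul, Suzuki.T_zero]

end

universe u

theorem inter_eq_bot_psu {X Y F : Type} [Group X] [Finite X] [Group Y] [Finite Y] (ξ : X →* Y)
    (hs : Function.Surjective ξ) (hc : ξ.ker ≤ center X) (h2 : IsPGroup 2 ξ.ker) [Field F] [Fintype F] {n : ℕ}
    (hn : 2 ≤ n) (hF : Fintype.card F = (2 ^ n) ^ 2) (e : Y ≃* Cfsg.PSU 3 F (2 ^ n)) :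
    ξ.ker ⊓ commutator X = ⊥ := by
  classical
  haveI : Fact (Nat.Prime 2) := ⟨Nat.prime_two⟩
  haveI : CharP F 2 := by
    obtain ⟨p, hp⟩ := CharP.exists F
    obtain ⟨N, hpp, hN⟩ := FiniteField.card F p
    have h : p ∣ (2 ^ n) ^ 2 := hF ▸ hN ▸ dvd_pow_self p N.ne_zero
    obtain rfl := (Nat.prime_dvd_prime_iff_eq hpp Nat.prime_two).1 (hpp.dvd_of_dvd_pow (hpp.dvd_of_dvd_pow h))
    exact hp
  obtain ⟨U, hUi, hUk⟩ := PSUMult.exists_kills_three_p (p := 2) hF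
    (le_trans (by norm_num) (Nat.pow_le_pow_right two_pos hn))
  set Z := center ↥(Cfsg.SU 3 F (2 ^ n)) with hZ
  set π := QuotientGroup.mk' Z with hπ
  obtain ⟨σ, hσ, hne, hinv, hfix, -⟩ := HermStd.exists_sigma hF
  have hZodd : Odd (Nat.card Z) := by
    rw [hZ, HermSU.card_center_SU hne hinv hσ (by norm_num) hfix]
    exact Odd.of_dvd_nat (by decide : Odd 3) (Nat.gcd_dvd_left 3 _)
  set η : X →* Cfsg.PSU 3 F (2 ^ n) := e.toMonoidHom.comp ξ with hη
  have hker : η.ker = ξ.ker := by ext x; simp [hη, MonoidHom.mem_ker]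
  rw [← hker] at hc h2 ⊢
  have hηs : Function.Surjective η := e.surjective.comp hs
  have hE : PSUMult.RExt 2 η := ⟨hηs, hc, fun x hx => by
    obtain ⟨k, hk⟩ := h2 ⟨x, hx⟩
    exact ⟨k, congrArg Subtype.val hk⟩⟩
  refine inter_eq_bot_of_odd η hηs hc h2 (U.map π)
    (fun h => hUi (h.trans (U.index_map_dvd (f := π) (QuotientGroup.mk'_surjective _)))) ?_
  intro w hw hw1 hw2
  let π₁ : PSUMult.pull η π →* X :=
    (MonoidHom.fst X ↥(Cfsg.SU 3 F (2 ^ n))).comp (PSUMult.pull η π).subtype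
  have hmap : (U.comap ((MonoidHom.snd X ↥(Cfsg.SU 3 F (2 ^ n))).comp (PSUMult.pull η π).subtype)).map π₁ =
      (U.map π).comap η := by
    ext x
    constructor
    · rintro ⟨a, ha, rfl⟩
      exact ⟨a.1.2, ha, a.2.symm⟩
    · rintro ⟨v, hv, e'⟩
      exact ⟨⟨(x, v), e'.symm⟩, hv, rfl⟩
  have hw' : (w : X) ∈ ⁅(U.map π).comap η, (U.map π).comap η⁆ := by
    rw [← map_subtype_commutator]
    exact mem_map_of_mem _ hw
  generalize hx : (w : X) = x at hw'
  rw [← hmap, ← map_commutator] at hw'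
  obtain ⟨a, ha, hae⟩ := hw'
  have haw : a.1.1 = (w : X) := hae.trans hx.symm
  have hv : a.1.2 ∈ Z := by
    have h1 : η a.1.1 = π a.1.2 := a.2
    rw [haw, hw1, eq_comm] at h1
    exact (QuotientGroup.eq_one_iff _).1 h1
  obtain ⟨k, hk⟩ := hZodd
  have hak : (a ^ Nat.card Z).1.2 = 1 := by
    show a.1.2 ^ Nat.card Z = 1
    exact congrArg Subtype.val (pow_card_eq_one' (x := (⟨a.1.2, hv⟩ : Z)))
  have h3 := hUk _ _ (hE.pull π) (a ^ Nat.card Z) (pow_mem ha _) hak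
  have h4 : (w : X) ^ Nat.card Z = 1 := by
    rw [← haw]
    exact congrArg (fun b : PSUMult.pull η π => b.1.1) h3
  rw [hk, pow_succ, pow_mul, hw2, one_pow, one_mul] at h4
  exact hx ▸ h4

theorem cover_zero : Cover.{0} := by
  intro X _ _ C _ hC h2 hB P hP
  have hs : Function.Surjective (QuotientGroup.mk' C) := QuotientGroup.mk'_surjective C
  have hker : (QuotientGroup.mk' C).ker = C := QuotientGroup.ker_mk' C
  have hc : (QuotientGroup.mk' C).ker ≤ center X := hker.le.trans hC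
  have h2' : IsPGroup 2 (QuotientGroup.mk' C).ker := hker.symm ▸ h2
  have hP' : ∀ y ∈ P, QuotientGroup.mk' C (y * y) = 1 → ∀ x ∈ P, Commute x y := fun y hy hyy =>
    hP y hy ((QuotientGroup.eq_one_iff _).1 hyy)
  rw [← hker]
  rcases hB with ⟨F, i1, i2, ⟨n, hn, hF⟩, ⟨e⟩⟩ | ⟨F, i1, i2, m, hm, hF, ⟨e⟩⟩ | ⟨F, i1, i2, n, hn, hF, ⟨e⟩⟩
  · haveI : CharP F 2 := by
      obtain ⟨p, hp⟩ := CharP.exists F
      obtain ⟨N, hpp, hN⟩ := FiniteField.card F p
      have h : p ∣ 2 ^ n := hF ▸ hN ▸ dvd_pow_self p N.ne_zero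
      obtain rfl := (Nat.prime_dvd_prime_iff_eq hpp Nat.prime_two).1 (hpp.dvd_of_dvd_pow h)
      exact hp
    exact inter_eq_bot_psl _ hs hc h2' e P hP'
  · have h : Suzuki.SzField F m := ⟨hm, hF⟩
    exact inter_eq_bot_sz _ hs hc h2' h (e.trans (Suzuki.minorEquiv h).symm) P hP'
  · exact inter_eq_bot_psu _ hs hc h2' hn hF e

/-- Every finite group has a copy in the lowest universe. -/
theorem cover : Cover.{u} := by
  intro X _ _ C _ hC h2 hB P hP
  haveI : Fact (Nat.Prime 2) := ⟨Nat.prime_two⟩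
  let X₀ : Type := {_i : Fin (Nat.card X) // True}
  let ε : X₀ ≃ X := (Equiv.subtypeUnivEquiv fun _ => trivial).trans (Finite.equivFin X).symm
  letI : Group X₀ := ε.group
  let f : X ≃* X₀ := ε.mulEquiv.symm
  set C' := C.map f.toMonoidHom with hC'
  haveI : C'.Normal := Normal.map inferInstance _ f.surjective
  have hmem : ∀ {x : X}, f x ∈ C' ↔ x ∈ C := fun {x} =>
    ⟨fun ⟨y, hy, e⟩ => f.injective e ▸ hy, fun h => ⟨x, h, rfl⟩⟩
  have h := cover_zero X₀ C' (fun x hx => by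
      obtain ⟨c, hc, rfl⟩ := hx
      exact mem_center_iff.2 fun y => by
        obtain ⟨y', rfl⟩ := f.surjective y
        show f y' * f c = f c * f y'
        rw [← map_mul, ← map_mul, mem_center_iff.1 (hC hc) y'])
    (h2.map _) ?_ (P.mapSurjective (f := f.toMonoidHom) f.surjective) ?_
  · refine eq_bot_iff.2 fun x hx => ?_
    obtain ⟨hx1, hx2⟩ := mem_inf.1 hx
    have h1 : f x ∈ C' ⊓ commutator X₀ := mem_inf.2 ⟨hmem.2 hx1, by
      have := mem_map_of_mem f.toMonoidHom hx2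
      rw [commutator_def, map_commutator] at this
      exact commutator_mono le_top le_top this⟩
    rw [h, mem_bot] at h1
    exact mem_bot.2 (f.injective (h1.trans (map_one f).symm))
  · rcases hB with ⟨F, i1, i2, hn, ⟨g⟩⟩ | ⟨F, i1, i2, m, hm, hF, ⟨g⟩⟩ | ⟨F, i1, i2, n, hn, hF, ⟨g⟩⟩
    · exact Or.inl ⟨F, i1, i2, hn, ⟨(QuotientGroup.congr C C' f rfl).symm.trans g⟩⟩
    · exact Or.inr (Or.inl ⟨F, i1, i2, m, hm, hF, ⟨(QuotientGroup.congr C C' f rfl).symm.trans g⟩⟩)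
    · exact Or.inr (Or.inr ⟨F, i1, i2, n, hn, hF, ⟨(QuotientGroup.congr C C' f rfl).symm.trans g⟩⟩)
  · rintro _ ⟨y, hy, rfl⟩ hyy _ ⟨x, hx, rfl⟩
    refine (hP y hy (hmem.1 ?_) x hx).map f.toMonoidHom
    rw [map_mul]; exact hyy

end Cfsg.Agent.GateCons
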