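import Cfsg.Agent.Lib.GateCons.Basic
import Cfsg.Agent.Lib.BrauerSuzuki.ZStar
import Cfsg.Agent.Lib.Transfer.Basic

/-!
The kernel of the action on `G ⧸ M` centralises the normal closure of `z` modulo a group of odd order.
-/

set_option autoImplicit false
set_option linter.style.haveILetI false
set_option linter.unusedSectionVars false

namespace Cfsg.Agent.GateCons

open Subgroup

universe u

variable {G : Type u} [Group G] [Finite G] {M : Subgroup G} {z : G}

theorem isPGroup_of_order_two {x : G} (h : orderOf x = 2) : IsPGroup 2 (zpowers x) :=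
  haveI : Fact (Nat.Prime 2) := ⟨Nat.prime_two⟩
  LESylow.isPGroup_zpowers (k := 1) (by rw [h, pow_one])

theorem exists_sylow_inter (T : Sylow 2 G) (N : Subgroup G) [N.Normal] :
    ∃ S : Sylow 2 N, (S : Subgroup N) = (T : Subgroup G).subgroupOf N := by
  haveI : Fact (Nat.Prime 2) := ⟨Nat.prime_two⟩
  have hi : (T : Subgroup G).relIndex N ∣ (T : Subgroup G).index := by
    rw [PBasic.relIndex_eq_relIndex_sup (T : Subgroup G) N]
    exact Dvd.intro _ (Subgroup.relIndex_mul_index le_sup_right)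
  exact ⟨IsPGroup.toSylow (P := (T : Subgroup G).subgroupOf N)
    (T.isPGroup'.comap_of_injective N.subtype N.subtype_injective)
    (fun h => T.not_dvd_index ((show 2 ∣ (T : Subgroup G).relIndex N from h).trans hi)), rfl⟩

theorem exists_not_mem_of_ne_top (h : M ≠ ⊤) : ∃ g, g ∉ M := by
  by_contra hc
  exact h (eq_top_iff.2 fun g _ => by_contra fun hg => hc ⟨g, hg⟩)

namespace Data

variable (d : Data M z)
include d

/-- A 2-element of a normal subgroup commutes with some conjugate of any given conjugate of `z` under it. -/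
theorem exists_commute_normal (N : Subgroup G) [N.Normal] {x : G} (hxN : x ∈ N)
    (hx2 : IsPGroup 2 (zpowers x)) (a : G) : ∃ r ∈ N, Commute x (r * a * z * (r * a)⁻¹) := by
  haveI : Fact (Nat.Prime 2) := ⟨Nat.prime_two⟩
  obtain ⟨S, -, hS⟩ := d.central
  obtain ⟨S', hS'⟩ := LESylow.exists_sylow_conj S a
  obtain ⟨T, hT⟩ := exists_sylow_inter S' N
  obtain ⟨r, hr, hle⟩ := LESylow.exists_conj_le_of_le (zpowers_le.2 hxN) hx2 T
  refine ⟨r⁻¹, inv_mem hr, ?_⟩
  have h1 := hle ⟨x, mem_zpowers x, rfl⟩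
  rw [hT, mem_map] at h1
  obtain ⟨⟨y, hyN⟩, hy, he⟩ := h1
  rw [mem_subgroupOf, hS'] at hy
  obtain ⟨s, hs, rfl⟩ := hy
  have he' : a * s * a⁻¹ = r * x * r⁻¹ := he
  have hx : x = MulAut.conj (r⁻¹ * a) s := by
    show x = r⁻¹ * a * s * (r⁻¹ * a)⁻¹
    calc x = r⁻¹ * (r * x * r⁻¹) * r := by group
      _ = _ := by rw [← he']; group
  rw [hx]
  show MulAut.conj (r⁻¹ * a) s * MulAut.conj (r⁻¹ * a) z = MulAut.conj (r⁻¹ * a) z * MulAut.conj (r⁻¹ * a) s
  rw [← map_mul, ← map_mul, (hS s hs).eq]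

theorem sylow_le {S : Sylow 2 G} (hS : ∀ s ∈ S, Commute s z) : (S : Subgroup G) ≤ M := fun s hs =>
  d.centralizer_le (mem_centralizer_singleton_iff.2 (hS s hs).eq)

/-- A 2-element of `M` commutes with a conjugate of `z` under `M`. -/
theorem exists_commute {x : G} (hxM : x ∈ M) (hx2 : IsPGroup 2 (zpowers x)) :
    ∃ m ∈ M, Commute x (m * z * m⁻¹) := by
  haveI : Fact (Nat.Prime 2) := ⟨Nat.prime_two⟩
  obtain ⟨S, -, hS⟩ := d.central
  obtain ⟨m, hm, hle⟩ := LESylow.exists_conj_le_of_le (zpowers_le.2 hxM) hx2 (S.subtype (d.sylow_le hS))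
  rw [Sylow.coe_subtype, map_subgroupOf_eq_of_le (d.sylow_le hS)] at hle
  refine ⟨m⁻¹, inv_mem hm, ?_⟩
  have h : Commute (MulAut.conj m x) z := hS _ (hle ⟨x, mem_zpowers x, rfl⟩)
  have h' := h.map (MulAut.conj m⁻¹).toMonoidHom
  have e : MulAut.conj m⁻¹ (MulAut.conj m x) = x := by simp [mul_assoc]
  rwa [show (MulAut.conj m⁻¹).toMonoidHom (MulAut.conj m x) = x from e,
    show (MulAut.conj m⁻¹).toMonoidHom z = m⁻¹ * z * m⁻¹⁻¹ from rfl] at h'

/-- A 2-element with centraliser inside `M` fixes no other point. -/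
theorem unique_of_centralizer_le {x a : G} (hC : centralizer ({x} : Set G) ≤ M)
    (hx2 : IsPGroup 2 (zpowers x)) (ha : a⁻¹ * x * a ∈ M) : a ∈ M := by
  have h2 : IsPGroup 2 (zpowers (a⁻¹ * x * a)) := by
    have := hx2.map (MulAut.conj a⁻¹).toMonoidHom
    rwa [MonoidHom.map_zpowers, show (MulAut.conj a⁻¹).toMonoidHom x = a⁻¹ * x * a by
      simp] at this
  obtain ⟨m, hm, hc⟩ := d.exists_commute ha h2
  have hc' := hc.map (MulAut.conj a).toMonoidHom
  have e1 : (MulAut.conj a).toMonoidHom (a⁻¹ * x * a) = x := by simp [mul_assoc]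
  have e2 : (MulAut.conj a).toMonoidHom (m * z * m⁻¹) = a * m * z * (a * m)⁻¹ := by
    simp [mul_assoc]
  rw [e1, e2] at hc'
  simpa using mul_mem (d.fix _ (hC (mem_centralizer_singleton_iff.2 hc'.symm.eq))) (inv_mem hm)

theorem not_centralizer_le {x : G} (hx : x ∈ M.normalCore) (hx2 : IsPGroup 2 (zpowers x)) :
    ¬ centralizer ({x} : Set G) ≤ M := fun hC => by
  obtain ⟨g, hg⟩ := exists_not_mem_of_ne_top d.ne_top
  refine hg (d.unique_of_centralizer_le hC hx2 (M.normalCore_le ?_))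
  simpa using M.normalCore_normal.conj_mem x hx g⁻¹

theorem z_notMem_core : z ∉ M.normalCore := fun h => d.not_centralizer_le h
  (isPGroup_of_order_two d.order) d.centralizer_le

/-- The kernel of the action centralises `z` modulo its part of odd order. -/
theorem commutator_mem {r : G} (hr : r ∈ M.normalCore) :
    r * z * r⁻¹ * z⁻¹ ∈ Cfsg.oddCore G ⊓ M.normalCore := by
  haveI : Fact (Nat.Prime 2) := ⟨Nat.prime_two⟩
  set R := M.normalCore with hR
  set J := R ⊔ zpowers z
  have hzJ : z ∈ J := mem_sup_right (mem_zpowers z)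
  have hiso : Cfsg.IsIsolated (⟨z, hzJ⟩ : J) := by
    rintro ⟨j, hj⟩ hc
    have hc' : Commute z (j * z * j⁻¹) := congrArg Subtype.val hc
    by_contra hne
    have hne' : j * z * j⁻¹ ≠ z := fun e => hne (Subtype.ext e)
    have he : orderOf (j * z * j⁻¹) = 2 := (Invol.order_conj j z).trans d.order
    obtain ⟨r', hr', w, hw, rfl⟩ := mem_sup_of_normal_left.1 hj
    have hwz : Commute w z := by
      obtain ⟨k, rfl⟩ := mem_zpowers_iff.1 hw
      exact (Commute.refl z).zpow_left k
    have e : z * (r' * w * z * (r' * w)⁻¹) = z * r' * z⁻¹ * r'⁻¹ := by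
      rw [mul_inv_rev, show r' * w * z * (w⁻¹ * r'⁻¹) = r' * (w * z * w⁻¹) * r'⁻¹ by group,
        hwz.eq, mul_inv_cancel_right, Invol.inv_self d.order]
      group
    refine d.not_centralizer_le (x := z * (r' * w * z * (r' * w)⁻¹)) ?_
      (isPGroup_of_order_two (order_mul_commute d.order he hc' hne')) (d.prod _ hc' hne')
    rw [e]
    exact mul_mem (M.normalCore_normal.conj_mem r' hr' z) (inv_mem hr')
  have h := BrauerSuzuki.zStar J ⟨z, hzJ⟩ (by rw [← Subgroup.orderOf_coe]; exact d.order) hiso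
    ⟨r, mem_sup_left hr⟩
  haveI hOn : (Cfsg.pPrimeCore 2 J).Normal := FittingCores.pPrimeCore_normal 2
  set W := (Cfsg.pPrimeCore 2 J).map J.subtype with hW
  have hWodd : Odd (Nat.card W) :=
    (Nat.coprime_two_right.1 (FittingCores.pPrimeCore_coprime (G := J) 2)).of_dvd_nat (card_map_dvd _ _)
  have hWR : W ≤ R := by
    intro x hx
    have hxJ : x ∈ J := map_subtype_le _ hx
    have hsq : x ^ 2 ∈ R := by
      rw [← QuotientGroup.eq_one_iff, QuotientGroup.mk_pow]
      obtain ⟨r', hr', w, hw, rfl⟩ := mem_sup_of_normal_left.1 hxJ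
      obtain ⟨k, rfl⟩ := mem_zpowers_iff.1 hw
      rw [QuotientGroup.mk_mul, (QuotientGroup.eq_one_iff r').2 hr', one_mul,
        ← QuotientGroup.mk_pow, ← zpow_natCast, ← zpow_mul, mul_comm, zpow_mul, zpow_natCast,
        pow_two, Invol.mul_self d.order, one_zpow, QuotientGroup.mk_one]
    obtain ⟨k, hk⟩ := Invol.exists_sqrt (SEBrick.odd_order hWodd hx)
    rw [← hk, ← pow_mul, mul_comm, pow_mul]
    exact pow_mem hsq k
  have hWn : (W.subgroupOf R).Normal := ⟨fun a ha b => by
    obtain ⟨y, hy, hye⟩ := ha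
    refine ⟨⟨b, mem_sup_left b.2⟩ * y * ⟨b, mem_sup_left b.2⟩⁻¹, hOn.conj_mem y hy _, ?_⟩
    show (b : G) * (y : G) * (b : G)⁻¹ = (b : G) * (a : G) * (b : G)⁻¹
    rw [show (y : G) = (a : G) from hye]⟩
  have hWo : Odd (Nat.card (W.subgroupOf R)) := by
    rwa [Nat.card_congr (subgroupOfEquivOfLe hWR).toEquiv]
  refine mem_inf.2 ⟨?_, hWR ⟨_, h, rfl⟩⟩
  refine FittingCores.pPrimeCore_map_subtype_le 2 (M.normalCore_normal) ?_
  exact ⟨⟨_, hWR ⟨_, h, rfl⟩⟩, SEBrick.le_oddCore hWn hWo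
    (show (⟨_, hWR ⟨_, h, rfl⟩⟩ : R) ∈ W.subgroupOf R from ⟨_, h, rfl⟩), rfl⟩

/-- The normal closure of `z` centralises the kernel modulo its part of odd order. -/
theorem comm_closure {x r : G} (hx : x ∈ normalClosure ({z} : Set G)) (hr : r ∈ M.normalCore) :
    r * x * r⁻¹ * x⁻¹ ∈ Cfsg.oddCore G ⊓ M.normalCore := by
  haveI : (Cfsg.oddCore G).Normal := FittingCores.pPrimeCore_normal 2
  haveI : (Cfsg.oddCore G ⊓ M.normalCore).Normal := normal_inf_normal _ _
  set π := QuotientGroup.mk' (Cfsg.oddCore G ⊓ M.normalCore) with hπ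
  haveI : (M.normalCore.map π).Normal :=
    Normal.map M.normalCore_normal π (QuotientGroup.mk'_surjective _)
  have hle : normalClosure ({z} : Set G) ≤ (centralizer (M.normalCore.map π : Set _)).comap π := by
    refine normalClosure_le_normal ?_
    rintro y rfl
    rw [SetLike.mem_coe, mem_comap, mem_centralizer_iff]
    rintro _ ⟨r', hr', rfl⟩
    have := d.commutator_mem hr'
    rw [← QuotientGroup.eq_one_iff] at this
    rw [← mul_inv_eq_iff_eq_mul, ← mul_inv_eq_one]
    simpa [hπ] using this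
  have h := mem_centralizer_iff.1 (mem_comap.1 (hle hx)) (π r) ⟨r, hr, rfl⟩
  rw [← QuotientGroup.eq_one_iff]
  change π (r * x * r⁻¹ * x⁻¹) = 1
  rw [map_mul, map_mul, map_mul, map_inv, map_inv, h]
  group

/-- `M` is strongly embedded in the normal closure of `z` once the kernel part of that closure is odd. -/
theorem se_of_odd (hg : Gate.{u})
    (hodd : Odd (Nat.card ↥(normalClosure ({z} : Set G) ⊓ M.normalCore))) :
    Cfsg.IsStronglyEmbedded (M.subgroupOf (normalClosure ({z} : Set G))) := by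
  set K := normalClosure ({z} : Set G) with hK
  have hzK : z ∈ K := subset_normalClosure rfl
  refine ⟨fun h => d.ne_top (eq_top_iff.2 fun g _ => ?_), ?_, ?_⟩
  · exact d.fix g (subgroupOf_eq_top.1 h (normalClosure_normal.conj_mem z hzK g))
  · exact Invol.even_of_invol_mem (t := (⟨z, hzK⟩ : K)) (by rw [← Subgroup.orderOf_coe]; exact d.order) d.mem
  · rintro ⟨g, hgK⟩ hgM
    rw [← Nat.not_even_iff_odd]
    intro he
    obtain ⟨⟨x, hxK⟩, hx, hx2⟩ := Invol.exists_invol he
    rw [← Subgroup.orderOf_coe] at hx2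
    obtain ⟨h1, h2⟩ := mem_inf.1 hx
    rw [Invol.mem_conj_map] at h2
    have hxR : x ∉ M.normalCore := fun h =>
      Nat.not_even_iff_odd.2 hodd (Invol.even_of_invol_mem hx2 (mem_inf.2 ⟨hxK, h⟩))
    have := hg G M z d.ne_top d.order d.mem d.central d.fix d.prod x hxK hxR
      (by rw [Invol.mul_self hx2]; exact one_mem _) 1 g (by simpa using mem_subgroupOf.1 h1)
      (mem_subgroupOf.1 h2)
    exact hgM (by simpa [mem_subgroupOf] using this)

theorem se_of_simple [IsSimpleGroup G] (hg : Gate.{u}) : Cfsg.IsStronglyEmbedded M := by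
  have h := d.se_of_odd hg (by
    rw [SEMain.core_eq_bot_of_simple d.ne_top, inf_bot_eq, card_bot]; exact odd_one)
  rw [normalClosure_eq_top d.order] at h
  exact se_subgroupOf_top_iff.1 h

end Data

end Cfsg.Agent.GateCons
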