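import Cfsg.Agent.Lib.GateCons.Statement
import Cfsg.Agent.Lib.LocalEven.SylowAux
import Cfsg.Agent.Lib.SEModule.Induction
import Cfsg.Agent.Lib.TwoGroups.NormalFour
import Cfsg.Prelude.Def_TwoFusion

/-!
Consequences of the criterion for strong embedding: simple groups, local data, strongly closed 2-subgroups.
-/

set_option autoImplicit false
set_option linter.style.haveILetI false
set_option linter.unusedSectionVars false

namespace Cfsg.Agent.GateCons

open Subgroup

universe u

variable {G : Type u} [Group G] [Finite G]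

theorem se_subgroupOf_top_iff {H : Subgroup G} :
    Cfsg.IsStronglyEmbedded (H.subgroupOf (⊤ : Subgroup G)) ↔ Cfsg.IsStronglyEmbedded H := by
  constructor
  · rintro ⟨h1, h2, h3⟩
    refine ⟨fun e => h1 (by rw [e, subgroupOf_eq_top]), ?_, fun g hg => ?_⟩
    · rwa [Nat.card_congr (subgroupOfEquivOfLe (le_top : H ≤ ⊤)).toEquiv] at h2
    · have h4 := h3 ⟨g, mem_top g⟩ hg
      have e : H.subgroupOf ⊤ ⊓ (H.subgroupOf ⊤).map (MulAut.conj (⟨g, mem_top g⟩ : (⊤ : Subgroup G))).toMonoidHom =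
          (H ⊓ H.map (MulAut.conj g).toMonoidHom).subgroupOf ⊤ := by
        ext x
        simp only [mem_inf, mem_subgroupOf, Invol.mem_conj_map]
        rfl
      rwa [e, Nat.card_congr (subgroupOfEquivOfLe (le_top : _ ≤ (⊤ : Subgroup G))).toEquiv] at h4
  · intro hH
    obtain ⟨g, hg⟩ := SEMain.exists_not_mem hH
    obtain ⟨a, haH, ha⟩ := Invol.exists_invol hH.2.1
    exact SEModule.se_subgroupOf hH (fun h => hg (h (mem_top g))) (mem_top a) haH ha

theorem normalClosure_eq_top [IsSimpleGroup G] {z : G} (hz : orderOf z = 2) :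
    normalClosure ({z} : Set G) = ⊤ :=
  normalClosure_normal.eq_bot_or_eq_top.resolve_left fun h =>
    Invol.ne_one hz (mem_bot.1 (h ▸ subset_normalClosure rfl))

/-- The hypotheses of the criterion. -/
structure Data (M : Subgroup G) (z : G) : Prop where
  ne_top : M ≠ ⊤
  order : orderOf z = 2
  mem : z ∈ M
  central : ∃ S : Sylow 2 G, z ∈ S ∧ ∀ s ∈ S, Commute s z
  fix : ∀ g : G, g * z * g⁻¹ ∈ M → g ∈ M
  prod : ∀ g : G, Commute z (g * z * g⁻¹) → g * z * g⁻¹ ≠ z →
    centralizer ({z * (g * z * g⁻¹)} : Set G) ≤ M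

namespace Data

variable {M : Subgroup G} {z : G} (d : Data M z)
include d

theorem centralizer_le : centralizer ({z} : Set G) ≤ M := fun c hc =>
  d.fix c (by rw [mem_centralizer_singleton_iff.1 hc, mul_inv_cancel_right]; exact d.mem)

end Data

theorem order_mul_commute {a b : G} (ha : orderOf a = 2) (hb : orderOf b = 2) (hc : Commute a b)
    (hne : b ≠ a) : orderOf (a * b) = 2 := by
  refine Invol.order_two_of_sq ?_ fun h => hne ?_
  · rw [mul_assoc, ← mul_assoc b, ← hc.eq, mul_assoc a b b, Invol.mul_self hb, mul_one, Invol.mul_self ha]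
  · calc b = a * a * b := by rw [Invol.mul_self ha, one_mul]
      _ = a := by rw [mul_assoc, h, mul_one]

/-- A strongly embedded subgroup of `L` holds no involution central in `L`. -/
theorem not_central {H L : Subgroup G} (hH : Cfsg.IsStronglyEmbedded (H.subgroupOf L)) {u : G}
    (hu : orderOf u = 2) (huH : u ∈ H) (huL : u ∈ L) (hc : ∀ x ∈ L, x * u = u * x) : False := by
  refine hH.1 (eq_top_iff.2 fun x _ => ?_)
  refine Invol.se_centralizer_le hH (t := ⟨u, huL⟩) (by rw [← Subgroup.orderOf_coe]; exact hu) huH ?_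
  exact mem_centralizer_singleton_iff.2 (Subtype.ext (hc x x.2))

theorem mem_of_map_iff {H : Subgroup G} {z g : G}
    (hi : ∀ g : G, z ∈ H.map (MulAut.conj g).toMonoidHom ↔ g ∈ H) (hg : g * z * g⁻¹ ∈ H) : g ∈ H :=
  inv_mem_iff.1 ((hi g⁻¹).1 (Invol.mem_conj_map.2 (by simpa using hg)))

/-- A subgroup containing the Sylow normalizer and the centralisers of the involutions of a strongly closed
subgroup satisfies the hypotheses of the criterion. -/
theorem data_of_strongly_closed (S : Sylow 2 G) {T : Subgroup G} (hT1 : T ≠ ⊥)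
    (hT : Cfsg.IsStronglyClosed T (S : Subgroup G)) {M : Subgroup G} (hM : M ≠ ⊤)
    (hC : ∀ t ∈ T, orderOf t = 2 → centralizer ({t} : Set G) ≤ M)
    (hN : normalizer ((S : Subgroup G) : Set G) ≤ M) :
    ∃ z, z ∈ T ∧ Data M z := by
  haveI : Fact (Nat.Prime 2) := ⟨Nat.prime_two⟩
  haveI : (T.subgroupOf (S : Subgroup G)).Normal := ⟨fun a ha b => by
    show (b : G) * a * (b : G)⁻¹ ∈ T
    exact hT.2 a ha b (mul_mem (mul_mem b.2 a.2) (inv_mem b.2))⟩
  obtain ⟨⟨z, hzS⟩, hzT, hz, hzc⟩ := NormalFour.exists_central_mem S.isPGroup'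
    (N := T.subgroupOf (S : Subgroup G)) fun h => hT1 (by
      have := subgroupOf_eq_bot.1 h
      exact this.eq_bot_of_le hT.1)
  rw [Subgroup.orderOf_mk] at hz
  change z ∈ T at hzT
  have hzcomm : ∀ s ∈ (S : Subgroup G), Commute s z := fun s hs =>
    congrArg Subtype.val (mem_center_iff.1 hzc ⟨s, hs⟩)
  have hSCz : (S : Subgroup G) ≤ centralizer ({z} : Set G) := fun s hs =>
    mem_centralizer_singleton_iff.2 (hzcomm s hs).eq
  have hSM : (S : Subgroup G) ≤ M := hSCz.trans (hC z hzT hz)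
  have key : ∀ (C : Subgroup G), (S : Subgroup G) ≤ C → ∀ A : Subgroup G, A ≤ C → IsPGroup 2 A →
      ∃ m ∈ C, A.map (MulAut.conj m).toMonoidHom ≤ (S : Subgroup G) := fun C hSC A hA hA2 => by
    obtain ⟨m, hm, hle⟩ := LESylow.exists_conj_le_of_le hA hA2 (S.subtype hSC)
    refine ⟨m, hm, hle.trans_eq ?_⟩
    rw [Sylow.coe_subtype, map_subgroupOf_eq_of_le hSC]
  have hfix : ∀ g : G, g * z * g⁻¹ ∈ M → g ∈ M := fun g hg => by
    have ho : orderOf (g * z * g⁻¹) = 2 := (Invol.order_conj g z).trans hz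
    obtain ⟨m, hm, hle⟩ := key M hSM _ (zpowers_le.2 hg)
      (LESylow.isPGroup_zpowers (k := 1) (by rw [ho, pow_one]))
    have hwS : m * g * z * (m * g)⁻¹ ∈ (S : Subgroup G) := by
      have := hle ⟨g * z * g⁻¹, mem_zpowers _, rfl⟩
      simpa [mul_assoc] using this
    have hCw := hC _ (hT.2 z hzT (m * g) hwS) ((Invol.order_conj _ z).trans hz)
    have hle' : (S : Subgroup G).map (MulAut.conj (m * g)).toMonoidHom ≤ M := by
      refine le_trans ?_ hCw
      rintro _ ⟨s, hs, rfl⟩
      refine mem_centralizer_singleton_iff.2 ?_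
      show MulAut.conj (m * g) s * MulAut.conj (m * g) z = MulAut.conj (m * g) z * MulAut.conj (m * g) s
      rw [← map_mul, ← map_mul, (hzcomm s hs).eq]
    obtain ⟨γ, hγ, hle2⟩ := key M hSM _ hle' (S.isPGroup'.map _)
    have hn : γ * (m * g) ∈ normalizer ((S : Subgroup G) : Set G) := by
      refine SEBrick.mem_normalizer_of fun x hx => ?_
      have := hle2 (mem_map_of_mem _ (mem_map_of_mem _ hx))
      simpa [mul_assoc] using this
    have h4 : γ * (m * g) ∈ M := hN hn
    simpa using mul_mem (inv_mem hm) (mul_mem (inv_mem hγ) h4)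
  refine ⟨z, hzT, hM, hz, hC z hzT hz (mem_centralizer_singleton_iff.2 rfl), ⟨S, hzS, hzcomm⟩,
    hfix, fun g hc hne x hx => ?_⟩
  have he : orderOf (g * z * g⁻¹) = 2 := (Invol.order_conj g z).trans hz
  obtain ⟨c, hcz, hle⟩ := key (centralizer ({z} : Set G)) hSCz _
    (zpowers_le.2 (mem_centralizer_singleton_iff.2 hc.symm.eq))
    (LESylow.isPGroup_zpowers (k := 1) (by rw [he, pow_one]))
  have heS : c * g * z * (c * g)⁻¹ ∈ (S : Subgroup G) := by
    have := hle ⟨g * z * g⁻¹, mem_zpowers _, rfl⟩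
    simpa [mul_assoc] using this
  have hcz' : c * z * c⁻¹ = z := by rw [mem_centralizer_singleton_iff.1 hcz, mul_inv_cancel_right]
  have hprod : MulAut.conj c (z * (g * z * g⁻¹)) = z * (c * g * z * (c * g)⁻¹) := by
    rw [map_mul, MulAut.conj_apply, MulAut.conj_apply, hcz']
    group
  have hu : orderOf (z * (c * g * z * (c * g)⁻¹)) = 2 := by
    rw [← hprod, MulEquiv.orderOf_eq]; exact order_mul_commute hz he hc hne
  have hCu := hC _ (mul_mem hzT (hT.2 z hzT (c * g) heS)) hu
  have hcM : c ∈ M := hC z hzT hz hcz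
  have hcx : MulAut.conj c x ∈ M := hCu (mem_centralizer_singleton_iff.2 (by
    rw [← hprod, ← map_mul, ← map_mul, mem_centralizer_singleton_iff.1 hx]))
  simpa [mul_assoc] using mul_mem (mul_mem (inv_mem hcM) hcx) hcM

end Cfsg.Agent.GateCons
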