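import Cfsg.Agent.Lib.GateCons.Kernel
import Cfsg.Agent.Lib.GoodInvol.Basic
import Mathlib.GroupTheory.GroupAction.Quotient

/-!
The conjugates of `z` are one-point involutions on `G ⧸ M`.
-/

set_option autoImplicit false
set_option linter.style.haveILetI false
set_option linter.unusedSectionVars false

namespace Cfsg.Agent.GateCons

open Subgroup

universe u

variable {G : Type u} [Group G] [Finite G] {M : Subgroup G} {z : G}

theorem smul_eq_iff {g a : G} : g • (a : G ⧸ M) = (a : G ⧸ M) ↔ a⁻¹ * g * a ∈ M := by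
  change ((g * a : G) : G ⧸ M) = (a : G ⧸ M) ↔ _
  rw [eq_comm, QuotientGroup.eq, mul_assoc]

namespace Data

variable (d : Data M z)
include d

theorem fix_iff {g a : G} : (g * z * g⁻¹) • (a : G ⧸ M) = (a : G ⧸ M) ↔ a⁻¹ * g ∈ M := by
  rw [smul_eq_iff]
  refine ⟨fun h => d.fix _ ?_, fun h => ?_⟩
  · have e : a⁻¹ * g * z * (a⁻¹ * g)⁻¹ = a⁻¹ * (g * z * g⁻¹) * a := by group
    rw [e]; exact h
  · have e : a⁻¹ * (g * z * g⁻¹) * a = a⁻¹ * g * z * (a⁻¹ * g)⁻¹ := by group
    rw [e]; exact mul_mem (mul_mem h d.mem) (inv_mem h)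

theorem odd_members (x : G ⧸ M) : Odd {c ∈ conjugatesOf z | c • x = x}.ncard := by
  haveI : Fact (Nat.Prime 2) := ⟨Nat.prime_two⟩
  induction x using QuotientGroup.induction_on with
  | _ a =>
    set C := (centralizer ({z} : Set G)).subgroupOf M
    have hmem : ∀ m₁ m₂ : M, m₁⁻¹ * m₂ ∈ C ↔
        (m₁ : G)⁻¹ * (m₂ : G) ∈ centralizer ({z} : Set G) := fun _ _ => Iff.rfl
    let f : M ⧸ C → G := Quotient.lift (fun m : M => a * (m : G) * z * (a * (m : G))⁻¹) fun m₁ m₂ h => by
      have h' := mem_centralizer_singleton_iff.1 ((hmem m₁ m₂).1 (QuotientGroup.leftRel_apply.1 h))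
      calc a * (m₁ : G) * z * (a * (m₁ : G))⁻¹
          = a * (m₁ : G) * (z * ((m₁ : G)⁻¹ * (m₂ : G))) * ((m₁ : G)⁻¹ * (m₂ : G))⁻¹ *
              (a * (m₁ : G))⁻¹ := by group
        _ = _ := by rw [← h']; group
    have hf : Function.Injective f := by
      intro p q
      induction p using QuotientGroup.induction_on with
      | _ m₁ =>
        induction q using QuotientGroup.induction_on with
        | _ m₂ =>
          intro (h : a * (m₁ : G) * z * (a * (m₁ : G))⁻¹ = a * (m₂ : G) * z * (a * (m₂ : G))⁻¹)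
          rw [QuotientGroup.eq, hmem]
          refine mem_centralizer_singleton_iff.2 ?_
          calc (m₁ : G)⁻¹ * (m₂ : G) * z
              = (m₁ : G)⁻¹ * a⁻¹ * (a * (m₂ : G) * z * (a * (m₂ : G))⁻¹) * (a * (m₂ : G)) := by group
            _ = _ := by rw [← h]; group
    have e : {c ∈ conjugatesOf z | c • (a : G ⧸ M) = (a : G ⧸ M)} = Set.range f := by
      ext c
      constructor
      · rintro ⟨hc, hca⟩
        obtain ⟨g, rfl⟩ := isConj_iff.1 (show IsConj z c from hc)
        refine ⟨((⟨a⁻¹ * g, (d.fix_iff).1 hca⟩ : M) : M ⧸ C), ?_⟩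
        show a * (a⁻¹ * g) * z * (a * (a⁻¹ * g))⁻¹ = g * z * g⁻¹
        rw [mul_inv_cancel_left]
      · rintro ⟨p, rfl⟩
        induction p using QuotientGroup.induction_on with
        | _ m =>
          refine ⟨(isConj_iff.2 ⟨a * (m : G), rfl⟩ : IsConj z _), (d.fix_iff).2 ?_⟩
          rw [inv_mul_cancel_left]; exact m.2
    rw [e, Set.ncard_range_of_injective hf]
    obtain ⟨S, -, hS⟩ := d.central
    have h1 : C.index ∣ (S : Subgroup G).index := by
      refine (show C.index ∣ (centralizer ({z} : Set G)).index from ?_).trans (index_dvd_of_le fun s hs =>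
        mem_centralizer_singleton_iff.2 (hS s hs).eq)
      exact Dvd.intro _ (relIndex_mul_index d.centralizer_le)
    refine Odd.of_dvd_nat ?_ h1
    rw [← Nat.not_even_iff_odd, even_iff_two_dvd]
    exact S.not_dvd_index

theorem crit : GoodInvol.Crit (conjugatesOf z) (G ⧸ M) where
  invol c hc := by
    obtain ⟨g, rfl⟩ := isConj_iff.1 (show IsConj z c from hc)
    exact (Invol.order_conj g z).trans d.order
  conj g c hc :=
    (show IsConj z c from hc).trans (isConj_iff.2 ⟨g, rfl⟩)
  unique c hc x y := by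
    obtain ⟨g, rfl⟩ := isConj_iff.1 (show IsConj z c from hc)
    induction x using QuotientGroup.induction_on with
    | _ a =>
      induction y using QuotientGroup.induction_on with
      | _ b =>
        intro ha hb
        rw [(QuotientGroup.eq (a := a)).2 ((d.fix_iff).1 ha), (QuotientGroup.eq (a := b)).2 ((d.fix_iff).1 hb)]
  prod c hc e he hce hne x y hx hy := by
    obtain ⟨g, rfl⟩ := isConj_iff.1 (show IsConj z c from hc)
    obtain ⟨k, rfl⟩ := isConj_iff.1 (show IsConj z e from he)
    -- in the coordinates of the first member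
    have e1 : g⁻¹ * k * z * (g⁻¹ * k)⁻¹ = MulAut.conj g⁻¹ (k * z * k⁻¹) := by
      simp [mul_assoc]
    have e2 : z = MulAut.conj g⁻¹ (g * z * g⁻¹) := by simp [mul_assoc]
    have hc' : Commute z (g⁻¹ * k * z * (g⁻¹ * k)⁻¹) := by
      rw [e1]; nth_rw 1 [e2]
      exact (show Commute (g * z * g⁻¹) (k * z * k⁻¹) from hce).map (MulAut.conj g⁻¹)
    have hne' : g⁻¹ * k * z * (g⁻¹ * k)⁻¹ ≠ z := fun h => hne (by
      rw [e1] at h; nth_rw 2 [e2] at h
      exact ((MulAut.conj g⁻¹).injective h).symm)
    have hC := d.prod _ hc' hne'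
    have he2 : orderOf (g⁻¹ * k * z * (g⁻¹ * k)⁻¹) = 2 := (Invol.order_conj _ z).trans d.order
    have hp := isPGroup_of_order_two (order_mul_commute d.order he2 hc' hne')
    have key : ∀ a : G, (g * z * g⁻¹ * (k * z * k⁻¹)) • (a : G ⧸ M) = (a : G ⧸ M) →
        (a : G ⧸ M) = (g : G ⧸ M) := by
      intro a ha
      rw [smul_eq_iff] at ha
      rw [eq_comm, QuotientGroup.eq]
      refine d.unique_of_centralizer_le hC hp ?_
      convert ha using 1
      group
    induction x using QuotientGroup.induction_on with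
    | _ a =>
      induction y using QuotientGroup.induction_on with
      | _ b => rw [key a hx, key b hy]
  odd := d.odd_members

end Data

/-- The criterion for one-point involutions gives the criterion in the form used here. -/
theorem gate_of_crit
    (h : ∀ (G : Type u) [Group G] [Finite G] (D : Set G) (Ω : Type u) [MulAction G Ω] [Finite Ω],
      GoodInvol.Crit D Ω → ∀ u ∈ Subgroup.closure D, (∀ x : Ω, u • u • x = x) → (∃ x : Ω, u • x ≠ x) →
        ∀ x y : Ω, u • x = x → u • y = y → x = y) : Gate.{u} := by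
  intro G _ _ M z hM hz hzM hc h2 h3 u hu hu1 hu2 a b ha hb
  have d : Data M z := ⟨hM, hz, hzM, hc, h2, h3⟩
  have hD : Subgroup.closure (conjugatesOf z) = normalClosure ({z} : Set G) := by
    refine congrArg Subgroup.closure ?_
    simp [Group.conjugatesOfSet]
  have hcore : ∀ w : G, w ∈ M.normalCore ↔ ∀ x : G ⧸ M, w • x = x := by
    intro w
    constructor
    · intro hw x
      induction x using QuotientGroup.induction_on with
      | _ c =>
        rw [smul_eq_iff]
        refine M.normalCore_le ?_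
        simpa using M.normalCore_normal.conj_mem w hw c⁻¹
    · intro hw c
      simpa using smul_eq_iff.1 (hw ((c⁻¹ : G) : G ⧸ M))
  rw [← QuotientGroup.eq]
  refine h G _ (G ⧸ M) d.crit u (hD ▸ hu) (fun x => ?_) ?_ _ _ (smul_eq_iff.2 ha) (smul_eq_iff.2 hb)
  · rw [← mul_smul]; exact (hcore _).1 hu2 x
  · by_contra hno
    exact hu1 ((hcore u).2 fun x => by_contra fun hx => hno ⟨x, hx⟩)

end Cfsg.Agent.GateCons
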