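import Cfsg.Agent.Lib.SEMain.Bender

/-!
The statement about central 2-extensions of the Bender groups used by the kernel argument.
-/

set_option autoImplicit false

namespace Cfsg.Agent.GateCons

universe u

/-- A central 2-subgroup with a Bender quotient meets the derived group trivially when the elements of a Sylow
2-subgroup squaring into it are central in that Sylow subgroup. -/
def Cover : Prop :=
  ∀ (X : Type u) [Group X] [Finite X] (C : Subgroup X) [C.Normal], C ≤ Subgroup.center X → IsPGroup 2 C →
    SEBender.IsBender (X ⧸ C) →
    ∀ P : Sylow 2 X, (∀ y ∈ P, y * y ∈ C → ∀ x ∈ P, Commute x y) → C ⊓ commutator X = ⊥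

end Cfsg.Agent.GateCons
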