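import Cfsg.Agent.Lib.GateCons.Kernel

/-!
The criterion in simple groups, from local data, and from strongly closed subgroups.
-/

set_option autoImplicit false
set_option linter.style.haveILetI false
set_option linter.unusedSectionVars false

namespace Cfsg.Agent.GateCons

open Subgroup

universe u

variable {G : Type u} [Group G] [Finite G]

theorem S1175_of [IsSimpleGroup G] (hg : Gate.{u}) (M : Subgroup G) (hM : M ≠ ⊤) (z : G)
    (hz : orderOf z = 2) (hzM : z ∈ M) (h1 : ∃ S : Sylow 2 G, z ∈ S ∧ ∀ s ∈ S, Commute s z)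
    (h2 : ∀ g : G, g * z * g⁻¹ ∈ M → g ∈ M)
    (h3 : ∀ g : G, Commute z (g * z * g⁻¹) → g * z * g⁻¹ ≠ z →
      centralizer ({z * (g * z * g⁻¹)} : Set G) ≤ M) :
    ∃ H : Subgroup G, Cfsg.IsStronglyEmbedded H :=
  ⟨M, (Data.mk hM hz hzM h1 h2 h3).se_of_simple hg⟩

theorem S1913_of (hg : Gate.{u}) (P : Sylow 2 G) (z : G) (hz2 : orderOf z = 2)
    (hzP : z ∈ (Subgroup.center ↥(P : Subgroup G)).map (P : Subgroup G).subtype)
    (H : Subgroup G) (hH : H ≠ ⊤) (hi : ∀ g : G, z ∈ H.map (MulAut.conj g).toMonoidHom ↔ g ∈ H)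
    (hii : ∀ u : G, orderOf u = 2 → u * z = z * u → ¬ Subgroup.centralizer ({u} : Set G) ≤ H →
      Cfsg.IsStronglyEmbedded (H.subgroupOf (Subgroup.closure {x : G | IsConj z x ∧ x * u = u * x}))) :
    Cfsg.IsStronglyEmbedded (H.subgroupOf (Subgroup.normalClosure ({z} : Set G))) := by
  have hzH : z ∈ H := by
    have := Invol.mem_conj_map.1 ((hi 1).2 H.one_mem)
    simpa using this
  have hfix : ∀ g : G, g * z * g⁻¹ ∈ H → g ∈ H := fun g => mem_of_map_iff hi
  have d : Data H z := by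
    refine ⟨hH, hz2, hzH, ?_, hfix, fun g hc hne => ?_⟩
    · obtain ⟨⟨w, hwP⟩, hw, rfl⟩ := hzP
      exact ⟨P, hwP, fun s hs => congrArg Subtype.val (mem_center_iff.1 hw ⟨s, hs⟩)⟩
    set e := g * z * g⁻¹ with he_def
    have he : orderOf e = 2 := (Invol.order_conj g z).trans hz2
    by_contra hnle
    have heH : e ∈ H := hfix e (by rw [hc.symm.eq, mul_inv_cancel_right]; exact hzH)
    have huz : z * e * z = z * (z * e) := by rw [mul_assoc, hc.symm.eq]
    have hue : e * (z * e) = z * e * e := by rw [← mul_assoc, hc.symm.eq]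
    refine not_central (hii (z * e) (order_mul_commute hz2 he hc hne) huz hnle)
      (order_mul_commute hz2 he hc hne) (mul_mem hzH heH) ?_ fun x hx => ?_
    · exact mul_mem (subset_closure ⟨IsConj.refl z, huz.symm⟩)
        (subset_closure ⟨isConj_iff.2 ⟨g, rfl⟩, hue⟩)
    · refine Subgroup.closure_induction (fun y hy => hy.2) (by simp) (fun a b _ _ ha hb => ?_)
        (fun a _ ha => ?_) hx
      · exact (Commute.mul_left ha hb : Commute (a * b) (z * e))
      · exact (Commute.inv_left ha : Commute a⁻¹ (z * e))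
  refine d.se_of_odd hg ?_
  set K := normalClosure ({z} : Set G) with hK
  rw [← Nat.not_even_iff_odd]
  intro hev
  obtain ⟨x, hx, hx2⟩ := Invol.exists_invol hev
  obtain ⟨r, hr, hc⟩ := d.exists_commute_normal H.normalCore (mem_inf.1 hx).2 (isPGroup_of_order_two hx2) 1
  -- a conjugate of the involution commuting with z
  set u := r⁻¹ * x * r with hu
  have huKR : u ∈ K ⊓ H.normalCore := by
    simpa [hu] using (normal_inf_normal K H.normalCore).conj_mem x hx r⁻¹
  have hu2 : orderOf u = 2 := by rw [hu]; simpa using (Invol.order_conj r⁻¹ x).trans hx2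
  have huz : u * z = z * u := by
    have h' := hc.map (MulAut.conj r⁻¹).toMonoidHom
    simp only [MulEquiv.toMonoidHom_eq_coe, MonoidHom.coe_coe, MulAut.conj_apply, inv_inv, mul_one] at h'
    simpa [hu, mul_assoc] using h'.eq
  have hse := hii u hu2 huz (d.not_centralizer_le (mem_inf.1 huKR).2 (isPGroup_of_order_two hu2))
  set L := Subgroup.closure {x : G | IsConj z x ∧ x * u = u * x} with hL
  obtain ⟨⟨g, hgL⟩, hgH⟩ := SEMain.exists_not_mem hse
  have hLodd : Odd (Nat.card ↥(L ⊓ H.normalCore)) := by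
    refine (hse.2.2 ⟨g, hgL⟩ hgH).of_dvd_nat ?_
    rw [← Nat.card_congr (subgroupOfEquivOfLe (inf_le_left : L ⊓ H.normalCore ≤ L)).toEquiv]
    refine card_dvd_of_le fun y hy => mem_inf.2 ⟨?_, Invol.mem_conj_map.2 ?_⟩
    · exact H.normalCore_le (mem_inf.1 (mem_subgroupOf.1 hy)).2
    · show g⁻¹ * (y : G) * g ∈ H
      refine H.normalCore_le ?_
      simpa using H.normalCore_normal.conj_mem _ (mem_inf.1 (mem_subgroupOf.1 hy)).2 g⁻¹
  haveI : (Cfsg.oddCore G).Normal := FittingCores.pPrimeCore_normal 2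
  set O := Cfsg.oddCore G ⊓ H.normalCore with hO
  haveI hOn : O.Normal := normal_inf_normal _ _
  have hOodd : Odd (Nat.card O) :=
    SEBrick.oddCore_odd.of_dvd_nat (card_dvd_of_le inf_le_left)
  -- every conjugate of z is congruent modulo O to one commuting with u
  have hKle : K ≤ L ⊔ O := by
    refine (closure_le _).2 fun y hy => ?_
    obtain ⟨a, rfl⟩ : ∃ a, a * z * a⁻¹ = y := by
      obtain ⟨s, hs, hsy⟩ := Group.mem_conjugatesOfSet_iff.1 hy
      obtain rfl := Set.mem_singleton_iff.1 hs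
      exact isConj_iff.1 hsy
    obtain ⟨r', hr', hc'⟩ := d.exists_commute_normal H.normalCore (mem_inf.1 huKR).2
      (isPGroup_of_order_two hu2) a
    have h1 : r' * a * z * (r' * a)⁻¹ ∈ L := subset_closure ⟨isConj_iff.2 ⟨_, rfl⟩, hc'.symm.eq⟩
    have h2 := d.comm_closure ((normalClosure_normal (s := ({z} : Set G))).conj_mem z (subset_normalClosure rfl) a) hr'
    have e : a * z * a⁻¹ = (r' * (a * z * a⁻¹) * r'⁻¹ * (a * z * a⁻¹)⁻¹)⁻¹ * (r' * a * z * (r' * a)⁻¹) := by
      group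
    rw [e]
    exact mul_mem (mem_sup_right (inv_mem h2)) (mem_sup_left h1)
  obtain ⟨l, hl, o, ho, he⟩ := mem_sup_of_normal_right.1 (hKle (mem_inf.1 huKR).1)
  have hlR : l ∈ L ⊓ H.normalCore := by
    refine mem_inf.2 ⟨hl, ?_⟩
    have : l = u * o⁻¹ := by rw [← he]; group
    rw [this]
    exact mul_mem (mem_inf.1 huKR).2 (inv_mem (mem_inf.1 ho).2)
  have hlO : (u : G ⧸ O) = (l : G ⧸ O) := by
    rw [← he, QuotientGroup.mk_mul, (QuotientGroup.eq_one_iff o).2 ho, mul_one]
  have hu1 : (u : G ⧸ O) = 1 := by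
    obtain ⟨k, hk⟩ := SEBrick.odd_order hLodd hlR
    have h1 : (u : G ⧸ O) ^ (2 * k + 1) = 1 := by
      rw [hlO, ← QuotientGroup.mk_pow, ← hk, pow_orderOf_eq_one, QuotientGroup.mk_one]
    rwa [pow_succ, pow_mul, pow_two, ← QuotientGroup.mk_mul, Invol.mul_self hu2, QuotientGroup.mk_one,
      one_pow, one_mul] at h1
  exact Nat.not_even_iff_odd.2 hOodd (Invol.even_of_invol_mem hu2 ((QuotientGroup.eq_one_iff u).1 hu1))

theorem S1174_of [IsSimpleGroup G] (hg : Gate.{u}) (S : Sylow 2 G) (T : Subgroup G) (hT1 : T ≠ ⊥)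
    (hT : Cfsg.IsStronglyClosed T (S : Subgroup G))
    (hprop : (⨆ t : {t : G // t ∈ T ∧ orderOf t = 2}, Subgroup.centralizer ({(t : G)} : Set G)) ≠ ⊤) :
    ∃ H : Subgroup G, Cfsg.IsStronglyEmbedded H := by
  haveI : Fact (Nat.Prime 2) := ⟨Nat.prime_two⟩
  set Γ := ⨆ t : {t : G // t ∈ T ∧ orderOf t = 2}, Subgroup.centralizer ({(t : G)} : Set G) with hΓ
  have hC : ∀ t ∈ T, orderOf t = 2 → centralizer ({t} : Set G) ≤ Γ := fun t ht h2 =>
    le_iSup (fun t : {t : G // t ∈ T ∧ orderOf t = 2} => centralizer ({(t : G)} : Set G)) ⟨t, ht, h2⟩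
  have hne : normalizer (Γ : Set G) ≠ ⊤ := fun h => by
    rcases (normalizer_eq_top_iff.1 h).eq_bot_or_eq_top with hb | ht
    · obtain ⟨t, ht, h2⟩ := LESylow.exists_orderOf_eq
        (LESylow.dvd_card_of_ne_bot (S.isPGroup'.to_le hT.1) hT1)
      exact Invol.ne_one h2 (mem_bot.1 (hb ▸ hC t ht h2 (mem_centralizer_singleton_iff.2 rfl)))
    · exact hprop ht
  have hNT : normalizer ((S : Subgroup G) : Set G) ≤ normalizer (Γ : Set G) := fun n hn => by
    refine SEBrick.mem_normalizer_of fun x hx => ?_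
    have hle : Γ ≤ Γ.comap (MulAut.conj n).toMonoidHom := iSup_le fun t y hy => by
      show n * y * n⁻¹ ∈ Γ
      refine hC (n * (t : G) * n⁻¹) (hT.2 _ t.2.1 n (SEBrick.conj_mem_of hn (hT.1 t.2.1)))
        ((Invol.order_conj n _).trans t.2.2) (mem_centralizer_singleton_iff.2 ?_)
      show MulAut.conj n y * MulAut.conj n (t : G) = MulAut.conj n (t : G) * MulAut.conj n y
      rw [← map_mul, ← map_mul, mem_centralizer_singleton_iff.1 hy]
    exact hle hx
  obtain ⟨z, -, hd⟩ := data_of_strongly_closed S hT1 hT hne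
    (fun t ht h2 => (hC t ht h2).trans le_normalizer) hNT
  exact ⟨_, hd.se_of_simple hg⟩


end Cfsg.Agent.GateCons
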