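import Cfsg.Agent.Lib.SEMain.Bender

/-!
The criterion for strong embedding in the form consumed by its corollaries.
-/

set_option autoImplicit false

namespace Cfsg.Agent.GateCons

universe u

/-- An involution in the centre of a Sylow 2-subgroup fixing one point of `G ⧸ M`, all of whose products with a
different commuting conjugate have centraliser inside `M`: an element of its normal closure acting as an involution
on `G ⧸ M` fixes at most one point. (An element in the kernel of the action is not excluded.) -/
def Gate : Prop :=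
  ∀ (G : Type u) [Group G] [Finite G] (M : Subgroup G) (z : G), M ≠ ⊤ → orderOf z = 2 → z ∈ M →
    (∃ S : Sylow 2 G, z ∈ S ∧ ∀ s ∈ S, Commute s z) →
    (∀ g : G, g * z * g⁻¹ ∈ M → g ∈ M) →
    (∀ g : G, Commute z (g * z * g⁻¹) → g * z * g⁻¹ ≠ z →
      Subgroup.centralizer ({z * (g * z * g⁻¹)} : Set G) ≤ M) →
    ∀ u ∈ Subgroup.normalClosure ({z} : Set G), u ∉ M.normalCore → u * u ∈ M.normalCore →
      ∀ a b : G, a⁻¹ * u * a ∈ M → b⁻¹ * u * b ∈ M → a⁻¹ * b ∈ M

end Cfsg.Agent.GateCons
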