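import Cfsg.Agent.Lib.GateCons.Kernel
import Cfsg.Agent.Lib.Components.FStar
import Cfsg.Agent.Lib.Signalizer.Transitivity
import Cfsg.Agent.Lib.PushUp3.Final

/-!
A tightly embedded subgroup meeting each conjugate of its normaliser in odd order, from the criterion.
-/

set_option autoImplicit false
set_option linter.style.haveILetI false
set_option linter.unusedSectionVars false

namespace Cfsg.Agent.GateCons

open Subgroup

universe u

variable {G : Type u} [Group G] [Finite G]

theorem S3121_of (hg : Gate.{u}) (hF : IsSimpleGroup ↥(Cfsg.generalizedFittingSubgroup G))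
    (hF' : ¬ IsMulCommutative ↥(Cfsg.generalizedFittingSubgroup G)) (H : Subgroup G)
    (hH : Cfsg.IsTightlyEmbedded H)
    (hodd : ∀ g : G, g ∉ Subgroup.normalizer (H : Set G) →
      Odd (Nat.card ↥(H.map (MulAut.conj g).toMonoidHom ⊓ Subgroup.normalizer (H : Set G)))) :
    H.Normal ∨ ∃ M : Subgroup ↥(Cfsg.generalizedFittingSubgroup G), Cfsg.IsStronglyEmbedded M := by
  classical
  haveI : Fact (Nat.Prime 2) := ⟨Nat.prime_two⟩
  set N := normalizer (H : Set G) with hN
  by_cases htop : N = ⊤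
  · exact Or.inl (normalizer_eq_top_iff.1 htop)
  right
  set L := Cfsg.generalizedFittingSubgroup G with hL
  haveI hLn : L.Normal := Components.generalizedFitting_normal
  have hCL : centralizer (L : Set G) = ⊥ := by
    rw [eq_bot_iff]
    intro c hc
    have hcL := Components.centralizer_generalizedFitting_le hc
    have hz : (⟨c, hcL⟩ : L) ∈ center L :=
      mem_center_iff.2 fun y => Subtype.ext (hc y y.2)
    rcases hF.eq_bot_or_eq_top_of_normal (center L) inferInstance with h | h
    · rw [h, mem_bot] at hz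
      exact mem_bot.2 (congrArg Subtype.val hz)
    · refine absurd ⟨⟨fun a b => ?_⟩⟩ hF'
      exact (mem_center_iff.1 (h ▸ mem_top b) a :)
  have h2L : 2 ∣ Nat.card L := by
    by_contra h2
    haveI := OddChar.oddSolvable L (Nat.odd_iff.2 (Nat.two_dvd_ne_zero.1 h2))
    haveI := hF.toNontrivial
    refine hF' ⟨⟨fun a b => ?_⟩⟩
    have h3 : commutator L = ⊥ := (hF.eq_bot_or_eq_top_of_normal (commutator L) inferInstance).resolve_right
      (Group.IsSolvable.commutator_lt_top_of_nontrivial L).ne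
    have := commutator_mem_commutator (mem_top a) (mem_top b)
    rw [← _root_.commutator_def, h3, mem_bot] at this
    exact commutatorElement_eq_one_iff_mul_comm.1 this
  have hHN : H ≤ N := le_normalizer
  -- an involution of `H` moves every other point
  have fix : ∀ {z : G}, z ∈ H → orderOf z = 2 → ∀ g : G, g * z * g⁻¹ ∈ N → g ∈ N := by
    intro z hz hz2 g hgz
    by_contra hgN
    exact Nat.not_even_iff_odd.2 (hodd g hgN) (Invol.even_of_invol_mem
      ((Invol.order_conj g z).trans hz2)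
      (mem_inf.2 ⟨Invol.mem_conj_map.2 (by simpa [mul_assoc] using hz), hgz⟩))
  obtain ⟨z₀, hz₀, hz₀2⟩ := Invol.exists_invol hH.1
  obtain ⟨T, hT⟩ := (IsPGroup.of_card (p := 2) (n := 1)
    (by rw [Nat.card_zpowers, hz₀2, pow_one] : Nat.card (zpowers z₀) = 2 ^ 1)).exists_le_sylow
  have hz₀T : z₀ ∈ (T : Subgroup G) := hT (mem_zpowers z₀)
  have hTN : (T : Subgroup G) ≤ N := by
    by_contra hle
    refine Signalizer.normalizer_inf_not_le T.isPGroup' (D := (T : Subgroup G) ⊓ N) inf_le_left
      (fun h => hle (inf_eq_left.1 h)) ?_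
    intro x hx
    obtain ⟨hxn, hxT⟩ := mem_inf.1 hx
    refine mem_inf.2 ⟨hxT, fix hz₀ hz₀2 x ?_⟩
    exact (mem_inf.1 ((mem_normalizer_iff.1 hxn z₀).1 (mem_inf.2 ⟨hz₀T, hHN hz₀⟩))).2
  -- a central one
  haveI : (H.subgroupOf (T : Subgroup G)).Normal := normal_subgroupOf_of_le_normalizer hTN
  obtain ⟨w, hw, hw2⟩ := Invol.exists_invol (K := H.subgroupOf (T : Subgroup G) ⊓ center (T : Subgroup G)) (by
    have hne : H.subgroupOf (T : Subgroup G) ⊓ center (T : Subgroup G) ≠ ⊥ := by
      refine PushUp3.inf_center_ne_bot T.isPGroup' fun h => Invol.ne_one hz₀2 ?_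
      have h' : (⟨z₀, hz₀T⟩ : (T : Subgroup G)) ∈ H.subgroupOf (T : Subgroup G) := mem_subgroupOf.2 hz₀
      rw [h, mem_bot] at h'
      exact congrArg Subtype.val h'
    obtain ⟨k, hk⟩ := IsPGroup.iff_card.1
      (T.isPGroup'.to_subgroup (H.subgroupOf (T : Subgroup G) ⊓ center (T : Subgroup G)))
    rcases k with _ | k
    · exact absurd (Subgroup.card_eq_one.1 (by rw [hk, pow_zero])) hne
    · rw [hk, pow_succ]; exact even_two.mul_left _)
  obtain ⟨hwH, hwc⟩ := mem_inf.1 hw
  set z : G := (w : G) with hzdef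
  have hzH : z ∈ H := mem_subgroupOf.1 hwH
  have hz2 : orderOf z = 2 := by rw [hzdef, orderOf_coe, hw2]
  have hCz : centralizer ({z} : Set G) ≤ N := fun c hc => fix hzH hz2 c (by
    rw [mem_centralizer_singleton_iff.1 hc, mul_inv_cancel_right]; exact hHN hzH)
  have d : Data N z := by
    refine ⟨htop, hz2, hHN hzH, ⟨T, w.2, fun s hs => ?_⟩, fix hzH hz2, fun g hc hne => ?_⟩
    · exact congrArg Subtype.val (mem_center_iff.1 hwc ⟨s, hs⟩)
    · have he : g * z * g⁻¹ ∈ N := hCz (mem_centralizer_singleton_iff.2 hc.symm.eq)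
      have heH : g * z * g⁻¹ ∈ H := (mem_normalizer_iff.1 (fix hzH hz2 g he) z).1 hzH
      have h2 := order_mul_commute hz2 ((Invol.order_conj g z).trans hz2) hc hne
      exact fun c hcc => fix (mul_mem hzH heH) h2 c (by
        rw [mem_centralizer_singleton_iff.1 hcc, mul_inv_cancel_right]
        exact hHN (mul_mem hzH heH))
  -- `L` is not inside `N`
  have hLN : ¬ L ≤ N := by
    intro hle
    haveI : ((H ⊓ L).subgroupOf L).Normal := normal_subgroupOf_of_le_normalizer
      ((le_inf hle le_normalizer).trans inf_normalizer_le_normalizer_inf)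
    rcases hF.eq_bot_or_eq_top_of_normal ((H ⊓ L).subgroupOf L) inferInstance with h | h
    · have hHC : H ≤ centralizer (L : Set G) := by
        intro x hx l hl
        have h1 : l * x * l⁻¹ * x⁻¹ ∈ H ⊓ L := mem_inf.2
          ⟨mul_mem ((mem_normalizer_iff.1 (hle hl) x).1 hx) (inv_mem hx), by
            rw [mul_assoc l x, mul_assoc l (x * l⁻¹)]
            exact mul_mem hl (hLn.conj_mem _ (inv_mem hl) x)⟩
        have h2 : (⟨_, (mem_inf.1 h1).2⟩ : L) ∈ (H ⊓ L).subgroupOf L := mem_subgroupOf.2 h1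
        rw [h, mem_bot] at h2
        have h3 : l * x * l⁻¹ * x⁻¹ = 1 := congrArg Subtype.val h2
        rwa [mul_inv_eq_one, mul_inv_eq_iff_eq_mul] at h3
      rw [hCL] at hHC
      exact Invol.ne_one hz2 (mem_bot.1 (hHC hzH))
    · have hLH : L ≤ H := (subgroupOf_eq_top.1 h).trans inf_le_left
      refine htop (eq_top_iff.2 fun g _ => ?_)
      by_contra hgN
      obtain ⟨t, ht⟩ : ∃ t : L, orderOf t = 2 := exists_prime_orderOf_dvd_card' 2 h2L
      have ht2 : orderOf (t : G) = 2 := by rw [orderOf_coe, ht]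
      refine Nat.not_even_iff_odd.2 (hodd g hgN) (Invol.even_of_invol_mem ht2 (mem_inf.2 ⟨?_, hHN (hLH t.2)⟩))
      refine Invol.mem_conj_map.2 (hLH ?_)
      simpa using hLn.conj_mem _ t.2 g⁻¹
  have hcore : N.normalCore ⊓ L = ⊥ := by
    rcases hF.eq_bot_or_eq_top_of_normal ((N.normalCore ⊓ L).subgroupOf L) inferInstance with h | h
    · exact disjoint_iff.1 (subgroupOf_eq_bot.1 h) |> fun e => by
        rwa [inf_assoc, inf_idem] at e
    · exact absurd ((subgroupOf_eq_top.1 h).trans (inf_le_left.trans N.normalCore_le)) hLN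
  have hLK : L ≤ normalClosure ({z} : Set G) := by
    rcases hF.eq_bot_or_eq_top_of_normal ((normalClosure ({z} : Set G)).subgroupOf L) inferInstance with h | h
    · refine absurd ?_ (Invol.ne_one hz2)
      have hd := subgroupOf_eq_bot.1 h
      refine mem_bot.1 (hCL ▸ ?_)
      intro l hl
      exact ((commute_of_normal_of_disjoint _ _ normalClosure_normal hLn hd z l
        (subset_normalClosure rfl) hl).eq).symm
    · exact subgroupOf_eq_top.1 h
  refine ⟨N.subgroupOf L, fun h => hLN (subgroupOf_eq_top.1 h), ?_, ?_⟩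
  · obtain ⟨T', hT'⟩ := exists_sylow_inter T L
    obtain ⟨t, ht⟩ : ∃ t : L, orderOf t = 2 ∧ t ∈ (T' : Subgroup L) := by
      obtain ⟨t, ht⟩ := exists_prime_orderOf_dvd_card' (G := (T' : Subgroup L)) 2 (T'.dvd_card_of_dvd_card h2L)
      exact ⟨t, by rw [orderOf_coe, ht], t.2⟩
    refine Invol.even_of_invol_mem ht.1 (mem_subgroupOf.2 (hTN ?_))
    have h2 := ht.2
    rw [hT'] at h2
    exact mem_subgroupOf.1 h2
  · rintro ⟨g, hgL⟩ hgM
    rw [← Nat.not_even_iff_odd]
    intro he
    obtain ⟨⟨x, hxL⟩, hx, hx2⟩ := Invol.exists_invol he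
    rw [← orderOf_coe] at hx2
    obtain ⟨h1, h2⟩ := mem_inf.1 hx
    rw [Invol.mem_conj_map] at h2
    have hxR : x ∉ N.normalCore := fun h => Invol.ne_one hx2 (mem_bot.1 (hcore ▸ mem_inf.2 ⟨h, hxL⟩))
    have := hg G N z d.ne_top d.order d.mem d.central d.fix d.prod x (hLK hxL) hxR
      (by rw [Invol.mul_self hx2]; exact one_mem _) 1 g (by simpa using mem_subgroupOf.1 h1)
      (mem_subgroupOf.1 h2)
    exact hgM (by simpa [mem_subgroupOf] using this)

end Cfsg.Agent.GateCons
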